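/-
The Tits group has no faithful 2-transitive action.
-/
import Cfsg.Agent.Lib.TitsDegree.Model
import Mathlib.GroupTheory.GroupAction.MultipleTransitivity

set_option autoImplicit false
set_option linter.unusedSectionVars false
set_option maxRecDepth 100000

namespace Cfsg.Agent.TitsDegree

open MulAction
open scoped Pointwise

section general

variable {G : Type*} [Group G] [Finite G] {Ω : Type*} [MulAction G Ω] [Finite Ω]

theorem card_orbit_mul (H : Subgroup G) (a : Ω) :
    Nat.card ↥(orbit ↥H a) * Nat.card ↥(stabilizer ↥H a) = Nat.card ↥H := by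
  rw [Nat.card_congr (orbitEquivQuotientStabilizer ↥H a), ← Subgroup.index, mul_comm]
  exact Subgroup.card_mul_index _

theorem card_stab_dvd {H K : Subgroup G} (h : H ≤ K) (a : Ω) :
    Nat.card ↥(stabilizer ↥H a) ∣ Nat.card ↥(stabilizer ↥K a) :=
  Subgroup.card_dvd_of_injective
    { toFun := fun x => (⟨⟨x.1.1, h x.1.2⟩, x.2⟩ : stabilizer ↥K a)
      map_one' := rfl
      map_mul' := fun _ _ => rfl } fun x y e => by
    have e' : x.1.1 = y.1.1 := congrArg (fun z : stabilizer ↥K a => z.1.1) e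
    exact Subtype.ext (Subtype.ext e')

theorem card_stab_dvd_top (H : Subgroup G) (a : Ω) :
    Nat.card ↥(stabilizer ↥H a) ∣ Nat.card ↥(stabilizer G a) :=
  Subgroup.card_dvd_of_injective
    { toFun := fun x => (⟨x.1.1, x.2⟩ : stabilizer G a)
      map_one' := rfl
      map_mul' := fun _ _ => rfl } fun x y e => by
    have e' : x.1.1 = y.1.1 := congrArg (fun z : stabilizer G a => z.1) e
    exact Subtype.ext (Subtype.ext e')

theorem exists_orbit_not_dvd {K : Type*} [Group K] {X : Type*} [MulAction K X] [Finite X] {d : ℕ}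
    (h : ¬ d ∣ Nat.card X) : ∃ a : X, ¬ d ∣ Nat.card ↥(orbit K a) := by
  classical
  by_contra hc
  push Not at hc
  apply h
  haveI : Fintype (Quotient (orbitRel K X)) := Fintype.ofFinite _
  rw [Nat.card_congr (selfEquivSigmaOrbits K X), Nat.card_sigma]
  exact Finset.dvd_sum fun q _ => hc _

theorem pair_stab (h2 : IsMultiplyPretransitive G Ω 2) {a b : Ω} (hab : a ≠ b) :
    ∃ K : Subgroup G, (∀ k ∈ K, k • a = a ∧ k • b = b) ∧
      Nat.card K * (Nat.card Ω * (Nat.card Ω - 1)) = Nat.card G := by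
  haveI : IsPretransitive G (Fin 2 ↪ Ω) := h2
  let e : Fin 2 ↪ Ω := ⟨![a, b], by intro i j; fin_cases i <;> fin_cases j <;> simp [hab, hab.symm]⟩
  refine ⟨stabilizer G e, fun k hk => ?_, ?_⟩
  · have h := mem_stabilizer_iff.1 hk
    exact ⟨congrArg (fun f : Fin 2 ↪ Ω => f 0) h, congrArg (fun f : Fin 2 ↪ Ω => f 1) h⟩
  · haveI := Fintype.ofFinite Ω
    rw [← (stabilizer G e).card_mul_index, index_stabilizer_of_transitive, Nat.card_eq_fintype_card (α := Fin 2 ↪ Ω),
      Fintype.card_embedding_eq, Fintype.card_fin, Nat.card_eq_fintype_card (α := Ω)]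
    simp [Nat.descFactorial, mul_comm]

theorem stab_card_mul [IsPretransitive G Ω] (a : Ω) :
    Nat.card ↥(stabilizer G a) * Nat.card Ω = Nat.card G := by
  rw [← index_stabilizer_of_transitive G a]
  exact Subgroup.card_mul_index _

theorem sign_toPerm [Fintype Ω] [DecidableEq Ω] (hs : IsSimpleGroup G) (hn : ¬ IsMulCommutative G)
    (g : G) : Equiv.Perm.sign (toPerm g : Equiv.Perm Ω) = 1 := by
  set f : G →* ℤˣ := Equiv.Perm.sign.comp (toPermHom G Ω)
  rcases hs.eq_bot_or_eq_top_of_normal f.ker inferInstance with h | h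
  · refine absurd ⟨⟨fun a b => ?_⟩⟩ hn
    exact (MonoidHom.ker_eq_bot_iff f).1 h (by rw [map_mul, map_mul, mul_comm])
  · have hg : g ∈ f.ker := by rw [h]; exact Subgroup.mem_top g
    exact MonoidHom.mem_ker.1 hg

theorem sign_eq_neg_one_of_sixteen {X : Type*} [Fintype X] [DecidableEq X] (hX : Fintype.card X = 16)
    {σ : Equiv.Perm X} (h16 : σ ^ 16 = 1) (h8 : σ ^ 8 ≠ 1) : Equiv.Perm.sign σ = -1 := by
  have ho : orderOf σ = 16 := by
    have h1 : orderOf σ ∣ 16 := orderOf_dvd_of_pow_eq_one h16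
    have h2 : ¬ orderOf σ ∣ 8 := fun h => h8 (orderOf_dvd_iff_pow_eq_one.1 h)
    have h3 : orderOf σ ≤ 16 := Nat.le_of_dvd (by norm_num) h1
    revert h1 h2 h3
    generalize orderOf σ = k
    intro h1 h2 h3
    interval_cases k <;> first | rfl | (exfalso; revert h1 h2; decide)
  have hmem : 16 ∈ σ.cycleType := by
    by_contra hc
    refine h8 (orderOf_dvd_iff_pow_eq_one.1 ?_)
    rw [← Equiv.Perm.lcm_cycleType]
    refine Multiset.lcm_dvd.2 fun k hk => ?_
    have hk16 : k ∣ 16 := ho ▸ Equiv.Perm.dvd_of_mem_cycleType hk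
    have hk' : k ≠ 16 := fun e => hc (e ▸ hk)
    have h3 : k ≤ 16 := Nat.le_of_dvd (by norm_num) hk16
    interval_cases k <;> (revert hk16 hk'; decide)
  obtain ⟨m, hm⟩ := Multiset.exists_cons_of_mem hmem
  have hsum := Equiv.Perm.sum_cycleType_le σ
  rw [hm, Multiset.sum_cons, hX] at hsum
  have hm0 : m = 0 := by
    rcases Multiset.empty_or_exists_mem m with h | ⟨k, hk⟩
    · exact h
    exfalso
    have h1 : 2 ≤ k := Equiv.Perm.two_le_of_mem_cycleType (σ := σ) (hm ▸ Multiset.mem_cons_of_mem hk)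
    have := Multiset.le_sum_of_mem hk
    omega
  rw [Equiv.Perm.sign_of_cycleType, hm, hm0]
  rfl

end general

theorem degree_list : ∀ n < 4241, 17971200 % (n * (n - 1)) = 0 → 3 ≤ n →
    n ≤ 13 ∨ n = 16 ∨ n = 25 ∨ n = 26 ∨ n = 27 ∨ n = 40 ∨ n = 65 := by
  decide +kernel

/-- The facts about the Tits group used below. -/
structure Data (G : Type*) [Group G] where
  S0 : Subgroup G
  P : Fin 2 → Subgroup G
  card_TT : Nat.card G = 17971200
  card_S0 : Nat.card ↥S0 = 2048
  card_P : ∀ i, Nat.card ↥(P i) = if i = 0 then 6144 else 10240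
  S0_le : ∀ i, S0 ≤ P i
  sup_P : P 0 ⊔ P 1 = ⊤
  card_le_of_ne_top : ∀ {M : Subgroup G}, S0 ≤ M → M ≠ ⊤ → Nat.card M ≤ 10240
  special : ∃ x ∈ S0, x ^ 16 = 1 ∧ x ^ 8 ≠ 1 ∧ ∀ p ∈ P 1, Commute (x ^ 8) p
  isSimple_TT : IsSimpleGroup G ∧ ¬ IsMulCommutative G ∧ Nat.card G = 17971200

section action

variable {G : Type*} [Group G] [Finite G] (D : Data G) {Ω : Type*} [MulAction G Ω] [Finite Ω]
include D


theorem odd_case (h1 : IsPretransitive G Ω) (hn : ¬ 2 ∣ Nat.card Ω) (h3 : 3 ≤ Nat.card Ω)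
    (hb : Nat.card Ω < 1755) : False := by
  haveI : Fact (Nat.Prime 2) := ⟨Nat.prime_two⟩
  have hp : IsPGroup 2 ↥D.S0 := IsPGroup.of_card (n := 11) (by rw [D.card_S0]; norm_num)
  obtain ⟨a, ha⟩ := hp.nonempty_fixed_point_of_prime_not_dvd_card Ω hn
  have hle : D.S0 ≤ stabilizer G a := fun s hs => ha ⟨s, hs⟩
  have hm := stab_card_mul (G := G) a
  rw [D.card_TT] at hm
  have hne : stabilizer G a ≠ ⊤ := by
    intro e
    rw [e, Subgroup.card_top, D.card_TT] at hm
    omega
  have := D.card_le_of_ne_top hle hne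
  nlinarith

theorem case26 (h2 : IsMultiplyPretransitive G Ω 2) (h1 : IsPretransitive G Ω) (hn : Nat.card Ω = 26) : False := by
  obtain ⟨a, ha⟩ := exists_orbit_not_dvd (K := ↥D.S0) (X := Ω) (d := 4) (by rw [hn]; norm_num)
  have hdvd : Nat.card ↥(orbit ↥D.S0 a) ∣ 2 ^ 11 :=
    ⟨_, ((card_orbit_mul D.S0 a).trans (D.card_S0.trans (by norm_num))).symm⟩
  obtain ⟨j, hj, hcard⟩ := (Nat.dvd_prime_pow Nat.prime_two).1 hdvd
  have hsmall : Nat.card ↥(orbit ↥D.S0 a) ≤ 2 := by
    rcases j with _ | _ | j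
    · rw [hcard]; norm_num
    · rw [hcard]; norm_num
    · exact absurd ⟨2 ^ j, by rw [hcard, pow_succ, pow_succ]; ring⟩ ha
  set O := orbit ↥D.S0 a with hO
  have hle : D.S0 ≤ stabilizer G O := fun s hs => by
    rw [mem_stabilizer_iff]
    exact smul_orbit (⟨s, hs⟩ : ↥D.S0) a
  have hne : stabilizer G O ≠ ⊤ := by
    intro e
    have hall : O = Set.univ := by
      refine Set.eq_univ_of_forall fun b => ?_
      obtain ⟨g, rfl⟩ := MulAction.exists_smul_eq G a b
      have hg : g ∈ stabilizer G O := e ▸ Subgroup.mem_top g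
      rw [← mem_stabilizer_iff.1 hg]
      exact Set.smul_mem_smul_set (mem_orbit_self a)
    rw [hall, Nat.card_univ, hn] at hsmall
    norm_num at hsmall
  have hmax := D.card_le_of_ne_top hle hne
  obtain ⟨b, hb, hOb⟩ : ∃ b, b ≠ a ∧ O ⊆ {a, b} := by
    by_cases h : ∃ b ∈ O, b ≠ a
    · obtain ⟨b, hb, hba⟩ := h
      refine ⟨b, hba, ?_⟩
      have hsub : ({a, b} : Set Ω) ⊆ O := Set.insert_subset (mem_orbit_self a) (Set.singleton_subset_iff.2 hb)
      refine (Set.eq_of_subset_of_ncard_le hsub ?_).ge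
      rw [← Nat.card_coe_set_eq, Set.ncard_pair hba.symm]
      exact hsmall
    · push Not at h
      haveI : Nontrivial Ω := Finite.one_lt_card_iff_nontrivial.1 (by omega)
      obtain ⟨b, hb⟩ := exists_ne a
      exact ⟨b, hb, fun c hc => Or.inl (h c hc)⟩
  obtain ⟨K, hK, hKc⟩ := pair_stab h2 (Ne.symm hb)
  have hKle : K ≤ stabilizer G O := fun k hk => by
    rw [mem_stabilizer_iff]
    have hfix : ∀ c ∈ O, k • c = c := fun c hc => by
      rcases hOb hc with e | e
      · rw [e]; exact (hK k hk).1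
      · rw [Set.mem_singleton_iff.1 e]; exact (hK k hk).2
    refine Set.ext fun c => ⟨?_, fun hc => ⟨c, hc, hfix c hc⟩⟩
    rintro ⟨d, hd, rfl⟩
    show k • d ∈ O
    rw [hfix d hd]; exact hd
  have h27 := Nat.le_of_dvd Nat.card_pos (Subgroup.card_dvd_of_le hKle)
  rw [D.card_TT, hn] at hKc
  have hK' : Nat.card K = 27648 := by omega
  have h1' := h27.trans hmax
  omega

theorem case16 [FaithfulSMul G Ω] (hn : Nat.card Ω = 16) : False := by
  classical
  haveI := Fintype.ofFinite Ω
  obtain ⟨x, -, h16, h8, -⟩ := D.special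
  have h1 := sign_toPerm (Ω := Ω) D.isSimple_TT.1 D.isSimple_TT.2.1 x
  rw [sign_eq_neg_one_of_sixteen (by rw [← Nat.card_eq_fintype_card, hn])
    (by rw [← toPermHom_apply, ← map_pow, h16, map_one])
    (fun h => h8 (MulAction.toPerm_injective (α := G) (β := Ω) (by
      rw [← toPermHom_apply, map_pow, toPermHom_apply, h]; exact (toPermHom G Ω).map_one.symm)))] at h1
  exact absurd h1 (by decide)

theorem case40 [FaithfulSMul G Ω] (h1 : IsPretransitive G Ω) (hn : Nat.card Ω = 40) : False := by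
  classical
  haveI := Fintype.ofFinite Ω
  obtain ⟨x, -, h16, h8, hcomm⟩ := D.special
  set z := x ^ 8 with hz
  have ho : orderOf x = 16 := by
    exact orderOf_eq_prime_pow (x := x) (p := 2) (n := 3) (hp := ⟨Nat.prime_two⟩) h8 h16
  set Z := Subgroup.zpowers x
  have hzZ : ∀ g ∈ Z, Commute z g := by
    intro g hg
    obtain ⟨k, rfl⟩ := Subgroup.mem_zpowers_iff.1 hg
    exact ((Commute.refl x).pow_left 8).zpow_right k
  let Mv : SubMulAction ↥Z Ω :=
    { carrier := {w | z • w ≠ w}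
      smul_mem' := fun g w hw h => hw (by
        have h' : z • ((g : G) • w) = (g : G) • w := h
        rw [smul_smul, (hzZ g g.2).eq, ← smul_smul] at h'
        exact smul_left_cancel _ h') }
  have h16dvd : 16 ∣ Nat.card Mv := by
    by_contra hc
    obtain ⟨w, hw⟩ := exists_orbit_not_dvd (K := ↥Z) hc
    apply hw
    have hst : stabilizer ↥Z w = ⊥ := by
      refine (Subgroup.eq_bot_iff_forall _).2 fun g hg => ?_
      obtain ⟨k, hk⟩ := Subgroup.mem_zpowers_iff.1 g.2
      have hfix : (g : G) • (w : Ω) = w := congrArg Subtype.val (mem_stabilizer_iff.1 hg)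
      have h16' : x ^ (16 : ℤ) = 1 := by exact_mod_cast h16
      have hk' : ¬ (k % 16 ≠ 0) := by
        intro hne
        have hpow : ∀ m : ℤ, (x ^ k) ^ m • (w : Ω) = w := fun m => by
          have : (x ^ k) ^ m ∈ stabilizer G (w : Ω) :=
            Subgroup.zpow_mem _ (mem_stabilizer_iff.2 (hk ▸ hfix)) m
          exact mem_stabilizer_iff.1 this
        obtain ⟨m, hm⟩ : ∃ m : ℤ, (k * m) % 16 = 8 := by
          have : ∀ r : Fin 16, r.val ≠ 0 → ∃ m : Fin 16, (r.val * m.val) % 16 = 8 := by decide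
          obtain ⟨m, hm⟩ := this ⟨(k % 16).toNat, by omega⟩ (by show (k % 16).toNat ≠ 0; omega)
          refine ⟨(m.val : ℤ), ?_⟩
          rw [Int.mul_emod]
          have hk0 : ((k % 16).toNat : ℤ) = k % 16 := Int.toNat_of_nonneg (by omega)
          have hm' : (((k % 16).toNat : ℤ) * (m.val : ℤ)) % 16 = 8 := by exact_mod_cast hm
          rw [hk0] at hm'
          rwa [Int.emod_eq_of_lt (b := 16) (a := (m.val : ℤ)) (by omega) (by omega)]
        refine w.2 ?_
        have e : z = (x ^ k) ^ m := by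
          rw [← zpow_mul, ← Int.emod_add_ediv_mul (k * m) 16, hm, zpow_add, zpow_mul', h16', one_zpow, mul_one, hz]
          exact (zpow_natCast x 8).symm
        rw [e]
        exact hpow m
      push Not at hk'
      refine Subtype.ext ?_
      rw [← hk, ← Int.emod_add_ediv_mul k 16, hk', zero_add, zpow_mul', h16', one_zpow]
      rfl
    rw [Nat.card_congr (orbitEquivQuotientStabilizer ↥Z w), hst,
      Nat.card_congr (QuotientGroup.quotientBot (G := ↥Z)).toEquiv, Nat.card_zpowers, ho]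
  set A : Set Ω := {w | z • w ≠ w} with hA
  have hAd : 16 ∣ A.ncard := by rwa [← Nat.card_coe_set_eq]
  have hA0 : 0 < A.ncard := by
    rw [Set.ncard_pos]
    by_contra he
    refine h8 (FaithfulSMul.eq_of_smul_eq_smul fun w : Ω => ?_)
    rw [one_smul]
    by_contra hw
    exact he ⟨w, hw⟩
  have hAle : A.ncard + Aᶜ.ncard = 40 := by rw [Set.ncard_add_ncard_compl, hn]
  have horb : ∀ a : Ω, orbit ↥(D.P 1) a = orbit ↥D.S0 a := by
    intro a
    have hsub : orbit ↥D.S0 a ⊆ orbit ↥(D.P 1) a := by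
      rintro _ ⟨s, rfl⟩
      exact ⟨⟨s.1, D.S0_le 1 s.2⟩, rfl⟩
    refine (Set.eq_of_subset_of_ncard_le hsub ?_).symm
    rw [← Nat.card_coe_set_eq, ← Nat.card_coe_set_eq]
    set o := Nat.card ↥(orbit ↥(D.P 1) a) with ho1
    have hst : Nat.card ↥(stabilizer G a) = 449280 := by
      have := stab_card_mul (G := G) a
      rw [D.card_TT, hn] at this
      omega
    have hP : o * Nat.card ↥(stabilizer ↥(D.P 1) a) = 10240 := by
      rw [ho1, card_orbit_mul, D.card_P]; rfl
    have hS : Nat.card ↥(orbit ↥D.S0 a) * Nat.card ↥(stabilizer ↥D.S0 a) = 2048 := by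
      rw [card_orbit_mul, D.card_S0]
    have hle32 : o ≤ 32 := by
      have hinv : ∀ w ∈ orbit ↥(D.P 1) a, (z • w = w ↔ z • a = a) := by
        rintro _ ⟨⟨p, hp⟩, rfl⟩
        show z • (p • a) = p • a ↔ _
        rw [smul_smul, (hcomm p hp).eq, ← smul_smul, smul_left_cancel_iff]
      rw [ho1, Nat.card_coe_set_eq]
      by_cases ha : z • a = a
      · have h := Set.ncard_le_ncard (s := orbit ↥(D.P 1) a) (t := Aᶜ) fun w hw h => h ((hinv w hw).2 ha)
        omega
      · have h := Set.ncard_le_ncard (s := orbit ↥(D.P 1) a) (t := A) fun w hw h => ha ((hinv w hw).1 h)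
        omega
    have hdv : Nat.card ↥(stabilizer ↥(D.P 1) a) ∣ 1280 := by
      have h := Nat.dvd_gcd (card_stab_dvd_top (D.P 1) a) (Dvd.intro_left _ hP)
      rw [hst] at h
      exact h
    obtain ⟨k, hk⟩ := hdv
    have ho8 : o = 8 * k := by
      have : o * Nat.card ↥(stabilizer ↥(D.P 1) a) = 8 * k * Nat.card ↥(stabilizer ↥(D.P 1) a) := by
        rw [hP, mul_assoc, mul_comm k, ← hk]
        norm_num
      exact Nat.eq_of_mul_eq_mul_right (Nat.pos_of_ne_zero fun e => by rw [e, mul_zero] at hP; omega) this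
    have hdiv : Nat.card ↥(stabilizer ↥D.S0 a) ∣ Nat.gcd 2048 (Nat.card ↥(stabilizer ↥(D.P 1) a)) :=
      Nat.dvd_gcd (Dvd.intro_left _ hS) (card_stab_dvd (D.S0_le 1) a)
    have hk4 : k ≤ 4 := by omega
    have hk0 : k ≠ 0 := by rintro rfl; omega
    have hkk : k = 1 ∨ k = 2 ∨ k = 4 := by
      have : k ∣ 1280 := Dvd.intro_left _ hk.symm
      interval_cases k <;> (revert this; decide)
    rcases hkk with rfl | rfl | rfl <;>
    · have hsP : Nat.card ↥(stabilizer ↥(D.P 1) a) = 10240 / o := by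
        rw [← hP, ho8, Nat.mul_div_cancel_left _ (by norm_num)]
      rw [hsP, ho8] at hdiv
      revert hdiv hS
      generalize Nat.card ↥(stabilizer ↥D.S0 a) = t
      intro hS hdiv
      norm_num at hdiv
      have := Nat.le_of_dvd (by norm_num) hdiv
      rw [ho8]
      nlinarith
  obtain ⟨a⟩ : Nonempty Ω := (Nat.card_pos_iff.1 (by omega)).1
  set W := orbit ↥(D.P 0) a with hW
  have hinv : D.P 0 ⊔ D.P 1 ≤ stabilizer G W := by
    have key : ∀ g : G, (∀ w ∈ W, g • w ∈ W) → g ∈ stabilizer G W := fun g hg => by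
      rw [mem_stabilizer_iff]
      refine Set.eq_of_subset_of_ncard_le ?_ (Set.ncard_image_of_injective _ (MulAction.injective g)).ge
      rintro _ ⟨w, hw, rfl⟩
      exact hg w hw
    refine sup_le (fun p hp => key p fun w hw => ?_) (fun p hp => key p fun w hw => ?_)
    · obtain ⟨q, rfl⟩ := hw
      exact ⟨⟨p, hp⟩ * q, mul_smul _ _ _⟩
    · have : p • w ∈ orbit ↥D.S0 w := horb w ▸ ⟨⟨p, hp⟩, rfl⟩
      obtain ⟨s, hs⟩ := this
      obtain ⟨q, rfl⟩ := hw
      rw [← hs]
      exact ⟨⟨s.1, D.S0_le 0 s.2⟩ * q, mul_smul _ _ _⟩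
  have hall : W = Set.univ := by
    refine Set.eq_univ_of_forall fun b => ?_
    obtain ⟨g, rfl⟩ := MulAction.exists_smul_eq G a b
    have hg : g ∈ stabilizer G W := hinv (D.sup_P ▸ Subgroup.mem_top g)
    rw [← mem_stabilizer_iff.1 hg]
    exact Set.smul_mem_smul_set (mem_orbit_self a)
  have h := card_orbit_mul (D.P 0) a
  rw [D.card_P, ← hW, hall, Nat.card_univ, hn, if_pos rfl] at h
  omega

theorem no_two_transitive [FaithfulSMul G Ω] (h3 : 3 ≤ Nat.card Ω) (h2 : IsMultiplyPretransitive G Ω 2) : False := by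
  haveI : Nontrivial Ω := Finite.one_lt_card_iff_nontrivial.1 (by omega)
  have h1 : IsPretransitive G Ω := MulAction.isPretransitive_of_is_two_pretransitive
  obtain ⟨a, b, hab⟩ := exists_pair_ne Ω
  obtain ⟨K, -, hK⟩ := pair_stab h2 hab
  rw [D.card_TT] at hK
  set n := Nat.card Ω with hn
  have hdvd : n * (n - 1) ∣ 17971200 := Dvd.intro_left _ hK
  have hle := Nat.le_of_dvd (by norm_num) hdvd
  have hlt : n < 4241 := by
    by_contra hc
    have h4 : 4240 ≤ n - 1 := by omega
    have := Nat.mul_le_mul (show 4241 ≤ n by omega) h4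
    omega
  rcases degree_list n hlt (Nat.mod_eq_zero_of_dvd hdvd) h3 with h | h | h | h | h | h | h
  · have hd : Nat.card G ∣ Nat.factorial 13 := by
      have := Subgroup.card_dvd_of_injective (toPermHom G Ω) MulAction.toPerm_injective
      rw [Nat.card_perm] at this
      exact this.trans (Nat.factorial_dvd_factorial (hn ▸ h))
    rw [D.card_TT] at hd
    exact absurd (Nat.mod_eq_zero_of_dvd hd) (by decide +kernel)
  · exact case16 D h
  · exact odd_case D h1 (by rw [← hn, h]; norm_num) (by omega) (by omega)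
  · exact case26 D h2 h1 h
  · exact odd_case D h1 (by rw [← hn, h]; norm_num) (by omega) (by omega)
  · exact case40 D h1 h
  · exact odd_case D h1 (by rw [← hn, h]; norm_num) (by omega) (by omega)

end action

/-- The facts hold for the Tits group. -/
noncomputable def titsData : Data ↥Seitz.TT where
  S0 := S0
  P := P
  card_TT := card_TT
  card_S0 := card_S0
  card_P := card_P
  S0_le := S0_le
  sup_P := sup_P
  card_le_of_ne_top := card_le_of_ne_top
  special := special
  isSimple_TT := isSimple_TT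

/-- A 2-transitive action transported along an isomorphism. -/
theorem no_two_transitive_of_equiv {Γ B : Type*} [Group Γ] [Group B] [Finite B] (D : Data B) {A : Subgroup Γ}
    (e : ↥A ≃* B) {Ω : Type*} [Finite Ω] [MulAction ↥A Ω] [FaithfulSMul ↥A Ω] (h3 : 3 ≤ Nat.card Ω)
    (h2 : IsMultiplyPretransitive ↥A Ω 2) : False := by
  letI : MulAction B Ω := MulAction.compHom Ω e.symm.toMonoidHom
  haveI : FaithfulSMul B Ω := ⟨fun {x y} h => e.symm.injective (FaithfulSMul.eq_of_smul_eq_smul fun w : Ω => h w)⟩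
  refine no_two_transitive D h3 ⟨fun u v => ?_⟩
  obtain ⟨g, hg⟩ := (show IsPretransitive ↥A (Fin 2 ↪ Ω) from h2).exists_smul_eq u v
  refine ⟨e g, ?_⟩
  ext i
  show e.symm (e g) • u i = v i
  rw [e.symm_apply_apply, ← hg]
  rfl

end Cfsg.Agent.TitsDegree
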